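import Mathlib.CategoryTheory.Triangulated.Subcategory
import Mathlib.Algebra.Category.ModuleCat.Basic
import Mathlib.LinearAlgebra.FiniteDimensional.Basic
import Mathlib.CategoryTheory.Linear.LinearFunctor
import Mathlib.Order.Zorn
import Mathlib.CategoryTheory.Preadditive.Opposite
import Mathlib.CategoryTheory.Preadditive.AdditiveFunctor

/-! Natural families `Hom(-, X) → H` on a triangulated subcategory extend along any map `X ⟶ Y`, when
`H` is cohomological with finite-dimensional values. -/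

universe w v u
open CategoryTheory CategoryTheory.Limits CategoryTheory.Pretriangulated Opposite

set_option backward.isDefEq.respectTransparency false
set_option linter.unusedSectionVars false
namespace Groth.L07.CompRep

variable {k : Type w} [Field k]
  {D : Type u} [Category.{v} D] [Preadditive D]
  {P : ObjectProperty D} (H : (P.FullSubcategory)ᵒᵖ ⥤ ModuleCat.{v} k)

/-- Pullback along a morphism of `D` between objects of `P`. -/
noncomputable abbrev res {A B : P.FullSubcategory} (a : B.obj ⟶ A.obj) :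
    H.obj (op A) →ₗ[k] H.obj (op B) :=
  (H.map (ObjectProperty.homMk a : B ⟶ A).op).hom

theorem res_id (A : P.FullSubcategory) (x : H.obj (op A)) : res H (𝟙 A.obj) x = x := by
  change H.map (𝟙 A : A ⟶ A).op x = x
  rw [op_id, H.map_id]
  rfl

theorem res_comp {A B C : P.FullSubcategory} (b : C.obj ⟶ B.obj) (a : B.obj ⟶ A.obj)
    (x : H.obj (op A)) : res H (b ≫ a) x = res H b (res H a x) := by
  change H.map ((ObjectProperty.homMk b : C ⟶ B) ≫ (ObjectProperty.homMk a : B ⟶ A)).op x = _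
  rw [op_comp, H.map_comp]
  rfl

theorem res_add [H.Additive] {A B : P.FullSubcategory} (a a' : B.obj ⟶ A.obj) (x : H.obj (op A)) :
    res H (a + a') x = res H a x + res H a' x := by
  change H.map ((ObjectProperty.homMk a : B ⟶ A) + (ObjectProperty.homMk a' : B ⟶ A)).op x = _
  rw [op_add, H.map_add]
  rfl

theorem res_zero [H.Additive] {A B : P.FullSubcategory} (x : H.obj (op A)) :
    res H (0 : B.obj ⟶ A.obj) x = 0 := by
  have h := res_add H (A := A) (B := B) 0 0 x
  rw [add_zero] at h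
  simpa using h

theorem res_neg [H.Additive] {A B : P.FullSubcategory} (a : B.obj ⟶ A.obj) (x : H.obj (op A)) :
    res H (-a) x = -res H a x := by
  have h := res_add H (-a) a x
  rw [neg_add_cancel, res_zero H] at h
  exact eq_neg_of_add_eq_zero_left h.symm

/-- Natural additive families `Hom(A, X) → H A`. -/
def fam (X : D) : AddSubgroup (∀ A : P.FullSubcategory, (A.obj ⟶ X) →+ H.obj (op A)) where
  carrier := {φ | ∀ (A B : P.FullSubcategory) (a : B.obj ⟶ A.obj) (c : A.obj ⟶ X),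
    φ B (a ≫ c) = res H a (φ A c)}
  zero_mem' := fun A B a c => (map_zero (res H a)).symm
  add_mem' := fun {φ ψ} hφ hψ A B a c => by
    simp only [Pi.add_apply, AddMonoidHom.add_apply, hφ A B a c, hψ A B a c, map_add]
  neg_mem' := fun {φ} hφ A B a c => by
    simp only [Pi.neg_apply, AddMonoidHom.neg_apply, hφ A B a c, map_neg]

variable [HasZeroObject D] [HasShift D ℤ] [∀ n : ℤ, (shiftFunctor D n).Additive] [Pretriangulated D]

/-- A relation as a partially defined natural family on `Hom(-, Z)`. -/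
structure IsPartial (Z : D) (R : ∀ A : P.FullSubcategory, AddSubgroup ((A.obj ⟶ Z) × H.obj (op A))) :
    Prop where
  functional : ∀ (A : P.FullSubcategory) (y : H.obj (op A)), ((0 : A.obj ⟶ Z), y) ∈ R A → y = 0
  precomp : ∀ (A B : P.FullSubcategory) (a : B.obj ⟶ A.obj) (c : A.obj ⟶ Z) (y : H.obj (op A)),
    (c, y) ∈ R A → (a ≫ c, res H a y) ∈ R B

variable [P.IsTriangulated] [P.IsClosedUnderIsomorphisms] [IsTriangulated D] [H.Additive]
variable (hcoh : ∀ T ∈ distTriang D, ∀ (h₁ : P T.obj₁) (h₂ : P T.obj₂) (h₃ : P T.obj₃)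
      (y : H.obj (op ⟨T.obj₂, h₂⟩)),
      res H (A := ⟨T.obj₂, h₂⟩) (B := ⟨T.obj₁, h₁⟩) T.mor₁ y = 0 →
        ∃ z : H.obj (op ⟨T.obj₃, h₃⟩),
          res H (A := ⟨T.obj₃, h₃⟩) (B := ⟨T.obj₂, h₂⟩) T.mor₂ z = y)

include hcoh in
/-- A single constraint is solvable. -/
theorem exists_solution {Z : D} {R : ∀ A : P.FullSubcategory, AddSubgroup ((A.obj ⟶ Z) × H.obj (op A))}
    (hR : IsPartial H Z R) {A B : P.FullSubcategory} (c : A.obj ⟶ Z) (a : B.obj ⟶ A.obj)
    (z : H.obj (op B)) (hz : (a ≫ c, z) ∈ R B) : ∃ y, res H a y = z := by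
  obtain ⟨C, g, h, hT⟩ := distinguished_cocone_triangle a
  have hC : P C := P.ext_of_isTriangulatedClosed₃ _ hT B.2 A.2
  have hC' : P (C⟦(-1 : ℤ)⟧) := P.le_shift (-1 : ℤ) _ hC
  have hT' := inv_rot_of_distTriang _ hT
  have h0 : (Triangle.mk a g h).invRotate.mor₁ ≫ (Triangle.mk a g h).invRotate.mor₂ = 0 :=
    comp_distTriang_mor_zero₁₂ _ hT'
  refine hcoh _ hT' hC' B.2 A.2 z ?_
  have h1 := hR.precomp B ⟨C⟦(-1 : ℤ)⟧, hC'⟩ (Triangle.mk a g h).invRotate.mor₁ (a ≫ c) z hz
  refine hR.functional _ _ ?_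
  have e : (Triangle.mk a g h).invRotate.mor₁ ≫ a ≫ c = 0 :=
    (Category.assoc _ _ _).symm.trans ((congrArg (· ≫ c) h0).trans zero_comp)
  erw [e] at h1
  exact h1

include hcoh in
/-- All constraints at one element are solvable simultaneously. -/
theorem exists_value (hfin : ∀ A : P.FullSubcategory, Module.Finite k (H.obj (op A))) {Z : D}
    {R : ∀ A : P.FullSubcategory, AddSubgroup ((A.obj ⟶ Z) × H.obj (op A))}
    (hR : IsPartial H Z R) {A : P.FullSubcategory} (c : A.obj ⟶ Z) :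
    ∃ y : H.obj (op A), ∀ (B : P.FullSubcategory) (a : B.obj ⟶ A.obj) (z : H.obj (op B)),
      (a ≫ c, z) ∈ R B → res H a y = z := by
  have := hfin A
  let Con := {q : Σ B : P.FullSubcategory, (B.obj ⟶ A.obj) × H.obj (op B) //
    (q.2.1 ≫ c, q.2.2) ∈ R q.1}
  have hne : Nonempty Con := ⟨⟨⟨A, 0, 0⟩, by
    rw [zero_comp]; exact (R A).zero_mem⟩⟩
  let m : Con → ℕ := fun q => Module.finrank k (LinearMap.ker (res H q.1.2.1))
  obtain ⟨q, hq⟩ : ∃ q, ∀ q', m q ≤ m q' := ⟨Function.argmin m, fun q' => Function.argmin_le m q'⟩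
  obtain ⟨y, hy⟩ := exists_solution H hcoh hR c q.1.2.1 q.1.2.2 q.2
  refine ⟨y, fun B a z hz => ?_⟩
  obtain ⟨⟨B₀, a₀, z₀⟩, hz₀⟩ := q
  obtain ⟨W, hW, ⟨e⟩⟩ := P.ext_of_isTriangulatedClosed₂' _
    (binaryBiproductTriangle_distinguished B₀.obj B.obj) B₀.2 B.2
  have hsum : P (B₀.obj ⊞ B.obj) := P.prop_of_iso e.symm hW
  let S : P.FullSubcategory := ⟨B₀.obj ⊞ B.obj, hsum⟩
  let a₂ : S.obj ⟶ A.obj := biprod.desc a₀ a
  let z₂ : H.obj (op S) := res H (B := S) (biprod.fst : B₀.obj ⊞ B.obj ⟶ B₀.obj) z₀ +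
    res H (B := S) (biprod.snd : B₀.obj ⊞ B.obj ⟶ B.obj) z
  have hz₂ : (a₂ ≫ c, z₂) ∈ R S := by
    have h1 := hR.precomp B₀ S biprod.fst _ _ hz₀
    have h2 := hR.precomp B S biprod.snd _ _ hz
    convert (R S).add_mem h1 h2 using 1
    refine Prod.ext ?_ rfl
    change biprod.desc a₀ a ≫ c = biprod.fst ≫ a₀ ≫ c + biprod.snd ≫ a ≫ c
    rw [biprod.desc_eq, Preadditive.add_comp, Category.assoc, Category.assoc]
  obtain ⟨y₂, hy₂⟩ := exists_solution H hcoh hR c a₂ z₂ hz₂
  have hl : res H (A := S) (B := B₀) biprod.inl z₂ = z₀ := by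
    simp only [z₂, map_add, ← res_comp]
    rw [biprod.inl_fst, biprod.inl_snd, res_id, res_zero, add_zero]
  have hr : res H (A := S) (B := B) biprod.inr z₂ = z := by
    simp only [z₂, map_add, ← res_comp]
    rw [biprod.inr_fst, biprod.inr_snd, res_id, res_zero, zero_add]
  have hA0 : ∀ x, res H a₀ x = res H (A := S) (B := B₀) biprod.inl (res H a₂ x) := fun x => by
    rw [← res_comp, show biprod.inl ≫ a₂ = a₀ from biprod.inl_desc _ _]
  have hA1 : ∀ x, res H a x = res H (A := S) (B := B) biprod.inr (res H a₂ x) := fun x => by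
    rw [← res_comp, show biprod.inr ≫ a₂ = a from biprod.inr_desc _ _]
  have hle : LinearMap.ker (res H a₂) ≤ LinearMap.ker (res H a₀) := fun x hx => by
    rw [LinearMap.mem_ker] at hx ⊢
    rw [hA0, hx, map_zero]
  have heq : LinearMap.ker (res H a₂) = LinearMap.ker (res H a₀) :=
    Submodule.eq_of_le_of_finrank_le hle (hq ⟨⟨S, a₂, z₂⟩, hz₂⟩)
  have hd : y - y₂ ∈ LinearMap.ker (res H a₂) := by
    rw [heq, LinearMap.mem_ker, map_sub, hy, hA0, hy₂, hl, sub_self]
  rw [LinearMap.mem_ker, map_sub, sub_eq_zero] at hd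
  rw [hA1, hd, hy₂, hr]

include hcoh in
/-- A natural family killed by `f` factors through the next map of a triangle. -/
theorem exists_extend (hfin : ∀ A : P.FullSubcategory, Module.Finite k (H.obj (op A)))
    {T : Triangle D} (hT : T ∈ distTriang D) (φ : fam H T.obj₂)
    (hφ : ∀ (A : P.FullSubcategory) (c : A.obj ⟶ T.obj₁), φ.1 A (c ≫ T.mor₁) = 0) :
    ∃ ψ : fam H T.obj₃, ∀ (A : P.FullSubcategory) (c : A.obj ⟶ T.obj₂),
      ψ.1 A (c ≫ T.mor₂) = φ.1 A c := by
  classical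
  let R₀ : ∀ A : P.FullSubcategory, AddSubgroup ((A.obj ⟶ T.obj₃) × H.obj (op A)) := fun A =>
    AddMonoidHom.range ((Preadditive.rightComp A.obj T.mor₂).prod (φ.1 A))
  have hR₀ : IsPartial H T.obj₃ R₀ := by
    refine ⟨fun A y => ?_, fun A B a c y => ?_⟩
    · rintro ⟨c, hc⟩
      obtain ⟨h1, h2⟩ := Prod.ext_iff.1 hc
      change c ≫ T.mor₂ = 0 at h1
      obtain ⟨c', rfl⟩ := Triangle.coyoneda_exact₂ _ hT c h1
      exact h2.symm.trans (hφ A c')
    · rintro ⟨c', hc⟩
      obtain ⟨h1, h2⟩ := Prod.ext_iff.1 hc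
      refine ⟨a ≫ c', Prod.ext ?_ ?_⟩
      · change (a ≫ c') ≫ T.mor₂ = a ≫ c
        rw [Category.assoc, show c' ≫ T.mor₂ = c from h1]
      · change φ.1 B (a ≫ c') = res H a y
        rw [φ.2 A B a c']
        exact congrArg (res H a) h2
  obtain ⟨R, hle, hmax⟩ := zorn_le_nonempty₀
    {R : ∀ A : P.FullSubcategory, AddSubgroup ((A.obj ⟶ T.obj₃) × H.obj (op A)) |
      IsPartial H T.obj₃ R} (fun C hC hchain R₁ hR₁ => by
      refine ⟨sSup C, ?_, fun R' hR' => le_sSup hR'⟩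
      have : Nonempty C := ⟨⟨R₁, hR₁⟩⟩
      have key : ∀ (A : P.FullSubcategory) (p), p ∈ (sSup C) A ↔ ∃ R' ∈ C, p ∈ R' A := by
        intro A p
        rw [sSup_apply, AddSubgroup.mem_iSup_of_directed]
        · exact ⟨fun ⟨R', h⟩ => ⟨R'.1, R'.2, h⟩, fun ⟨R', h', h⟩ => ⟨⟨R', h'⟩, h⟩⟩
        · rintro ⟨R', h'⟩ ⟨R'', h''⟩
          rcases hchain.total h' h'' with h | h
          · exact ⟨⟨R'', h''⟩, h A, le_rfl⟩
          · exact ⟨⟨R', h'⟩, le_rfl, h A⟩
      refine ⟨fun A y hy => ?_, fun A B a c y hy => ?_⟩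
      · obtain ⟨R', h', hy⟩ := (key A _).1 hy
        exact (hC h').functional A y hy
      · obtain ⟨R', h', hy⟩ := (key A _).1 hy
        exact (key B _).2 ⟨R', h', (hC h').precomp A B a c y hy⟩) R₀ hR₀
  have hR : IsPartial H T.obj₃ R := hmax.prop
  have htot : ∀ (A : P.FullSubcategory) (c : A.obj ⟶ T.obj₃), ∃ y, (c, y) ∈ R A := by
    intro A c
    obtain ⟨y, hy⟩ := exists_value H hcoh hfin hR c
    let g : ∀ B : P.FullSubcategory, (B.obj ⟶ A.obj) →+ (B.obj ⟶ T.obj₃) × H.obj (op B) := fun B =>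
      AddMonoidHom.mk' (fun b => (b ≫ c, res H b y)) fun b b' => by
        rw [Preadditive.add_comp, res_add]
        rfl
    let R' := fun B => R B ⊔ (g B).range
    have hR' : IsPartial H T.obj₃ R' := by
      refine ⟨fun B w hw => ?_, fun B B' b d w hw => ?_⟩
      · obtain ⟨r, hr, -, ⟨t, rfl⟩, hsum⟩ := AddSubgroup.mem_sup.1 hw
        obtain ⟨r₁, r₂⟩ := r
        obtain ⟨h1, h2⟩ := Prod.ext_iff.1 hsum
        change r₁ + t ≫ c = 0 at h1
        change r₂ + res H t y = w at h2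
        have h3 : ((-t) ≫ c, r₂) ∈ R B := by
          rw [Preadditive.neg_comp, ← eq_neg_of_add_eq_zero_left h1]
          exact hr
        rw [← h2, ← hy B _ _ h3, res_neg, neg_add_cancel]
      · obtain ⟨r, hr, -, ⟨t, rfl⟩, hsum⟩ := AddSubgroup.mem_sup.1 hw
        obtain ⟨r₁, r₂⟩ := r
        obtain ⟨h1, h2⟩ := Prod.ext_iff.1 hsum
        change r₁ + t ≫ c = d at h1
        change r₂ + res H t y = w at h2
        refine AddSubgroup.mem_sup.2 ⟨_, hR.precomp B B' b r₁ r₂ hr, _, ⟨b ≫ t, rfl⟩, ?_⟩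
        refine Prod.ext ?_ ?_
        · change b ≫ r₁ + (b ≫ t) ≫ c = b ≫ d
          rw [← h1, Preadditive.comp_add, Category.assoc]
        · change res H b r₂ + res H (b ≫ t) y = res H b w
          rw [← h2, map_add, res_comp]
    have hRR' : R ≤ R' := fun B => le_sup_left
    refine ⟨y, hmax.le_of_ge hR' hRR' A (AddSubgroup.mem_sup_right ⟨𝟙 A.obj, ?_⟩)⟩
    refine Prod.ext ?_ ?_
    · exact Category.id_comp c
    · exact res_id H A y
  have huniq : ∀ (A : P.FullSubcategory) (c : A.obj ⟶ T.obj₃) (y y' : H.obj (op A)),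
      (c, y) ∈ R A → (c, y') ∈ R A → y = y' := by
    intro A c y y' h h'
    refine sub_eq_zero.1 (hR.functional A _ ?_)
    have := (R A).sub_mem h h'
    rwa [Prod.mk_sub_mk, sub_self] at this
  choose val hval using htot
  refine ⟨⟨fun A => AddMonoidHom.mk' (val A) fun c c' =>
    huniq A _ _ _ (hval A _) ((R A).add_mem (hval A c) (hval A c')), fun A B a c =>
    huniq B _ _ _ (hval B _) (hR.precomp A B a c _ (hval A c))⟩, fun A c => ?_⟩
  exact huniq A _ _ _ (hval A _) (hle A ⟨c, rfl⟩)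

end Groth.L07.CompRep
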