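import Groth.Agent.L07.CompRep.Small
import Groth.Agent.L07.CompRep.Extend
import Groth.Agent.L10.BrownAdj
import Mathlib.CategoryTheory.Linear.Yoneda
import Mathlib.Logic.Small.Basic
import Mathlib.Algebra.Group.TransferInstance

/-! A cohomological functor with finite-dimensional values on the compact objects is represented. -/

universe w v u
open CategoryTheory CategoryTheory.Limits CategoryTheory.Pretriangulated CategoryTheory.Pretriangulated.Opposite Opposite DirectSum

set_option backward.isDefEq.respectTransparency false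
set_option backward.defeqAttrib.useBackward true
set_option linter.unusedSectionVars false
set_option linter.style.haveILetI false
namespace Groth.L07.CompRep

section
variable {k : Type w} [Field k]
  {D : Type u} [Category.{v} D] [Preadditive D]
  {P : ObjectProperty D} (H : (P.FullSubcategory)ᵒᵖ ⥤ ModuleCat.{v} k)

theorem fam_ext {X : D} {φ ψ : fam H X} (h : ∀ A c, φ.1 A c = ψ.1 A c) : φ = ψ :=
  Subtype.ext (funext fun A => AddMonoidHom.ext (h A))

theorem small_fam [ObjectProperty.EssentiallySmall.{v} P] (X : D) : Small.{v} (fam H X) := by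
  obtain ⟨Q, _, hQP, hPQ⟩ := ObjectProperty.EssentiallySmall.exists_small_le.{v} P
  refine small_of_injective (β := ∀ A : Subtype Q,
    (A.1 ⟶ X) → H.obj (op (⟨A.1, hQP _ A.2⟩ : P.FullSubcategory)))
    (f := fun φ A c => φ.1 ⟨A.1, hQP _ A.2⟩ c) fun φ ψ h => fam_ext H fun A c => ?_
  obtain ⟨B, hB, ⟨e⟩⟩ := hPQ _ A.2
  have h1 := φ.2 ⟨B, hQP _ hB⟩ A e.hom (e.inv ≫ c)
  have h2 := ψ.2 ⟨B, hQP _ hB⟩ A e.hom (e.inv ≫ c)
  rw [Iso.hom_inv_id_assoc] at h1 h2
  rw [h1, h2]
  exact congrArg (res H e.hom) (congr($h ⟨B, hB⟩ (e.inv ≫ c)))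

/-- Restriction of natural families along a morphism. -/
noncomputable def famMap {X Y : D} (f : X ⟶ Y) : fam H Y →+ fam H X :=
  AddMonoidHom.mk' (fun φ => ⟨fun A => (φ.1 A).comp (Preadditive.rightComp A.obj f), fun A B a c => by
    change φ.1 B ((a ≫ c) ≫ f) = res H a (φ.1 A (c ≫ f))
    rw [Category.assoc, φ.2]⟩) fun _ _ => rfl

theorem famMap_apply {X Y : D} (f : X ⟶ Y) (φ : fam H Y) (A : P.FullSubcategory) (c : A.obj ⟶ X) :
    (famMap H f φ).1 A c = φ.1 A (c ≫ f) := rfl

/-- The functor of natural families, shrunk to `Type v`. -/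
noncomputable def famFunctor (hs : ∀ X, Small.{v} (fam H X)) : Dᵒᵖ ⥤ AddCommGrpCat.{v} where
  obj X := haveI := hs X.unop; AddCommGrpCat.of (Shrink.{v} (fam H X.unop))
  map {X Y} f :=
    haveI := hs X.unop; haveI := hs Y.unop
    AddCommGrpCat.ofHom ((Shrink.addEquiv.symm.toAddMonoidHom.comp (famMap H f.unop)).comp
      Shrink.addEquiv.toAddMonoidHom)
  map_id X := by
    haveI := hs X.unop
    refine AddCommGrpCat.hom_ext (AddMonoidHom.ext fun x => ?_)
    refine (Shrink.addEquiv (α := fam H X.unop)).injective (fam_ext H fun A c => ?_)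
    change (Shrink.addEquiv (α := fam H X.unop) ((Shrink.addEquiv (α := fam H X.unop)).symm
      (famMap H (𝟙 X.unop) (Shrink.addEquiv x)))).1 A c = _
    rw [AddEquiv.apply_symm_apply, famMap_apply, Category.comp_id]
    rfl
  map_comp {X Y Z} f g := by
    haveI := hs X.unop; haveI := hs Y.unop; haveI := hs Z.unop
    refine AddCommGrpCat.hom_ext (AddMonoidHom.ext fun x => ?_)
    refine (Shrink.addEquiv (α := fam H Z.unop)).injective (fam_ext H fun A c => ?_)
    change (Shrink.addEquiv (α := fam H Z.unop) ((Shrink.addEquiv (α := fam H Z.unop)).symm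
      (famMap H (g.unop ≫ f.unop) (Shrink.addEquiv x)))).1 A c =
      (Shrink.addEquiv (α := fam H Z.unop) ((Shrink.addEquiv (α := fam H Z.unop)).symm
        (famMap H g.unop (Shrink.addEquiv (α := fam H Y.unop) ((Shrink.addEquiv (α := fam H Y.unop)).symm
          (famMap H f.unop (Shrink.addEquiv x))))))).1 A c
    simp only [AddEquiv.apply_symm_apply, famMap_apply, Category.assoc]

/-- The underlying natural family of an element. -/
noncomputable def toFam (hs : ∀ X, Small.{v} (fam H X)) (X : D) :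
    (famFunctor H hs).obj (op X) ≃+ fam H X :=
  haveI := hs X; Shrink.addEquiv

theorem toFam_map (hs : ∀ X, Small.{v} (fam H X)) {X Y : D} (f : X ⟶ Y)
    (x : (famFunctor H hs).obj (op Y)) :
    toFam H hs X ((famFunctor H hs).map f.op x) = famMap H f (toFam H hs Y x) := by
  haveI := hs X; haveI := hs Y
  exact AddEquiv.apply_symm_apply _ _

end

section
variable {k : Type w} [Field k]
  {D : Type u} [Category.{v} D] [Preadditive D] [HasCoproducts.{v} D]
  (H : (ObjectProperty.FullSubcategory (fun K : D => CohDer.IsCompactObject K))ᵒᵖ ⥤ ModuleCat.{v} k)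

theorem preservesProducts_famFunctor (hs : ∀ X, Small.{v} (fam H X)) (κ : Type v) :
    PreservesLimitsOfShape (Discrete κ) (famFunctor H hs) := by
  classical
  suffices ∀ f : κ → Dᵒᵖ, PreservesLimit (Discrete.functor f) (famFunctor H hs) from
    preservesLimitsOfShape_of_discrete _
  intro f
  let F : κ → D := fun j => (f j).unop
  have hl : IsLimit (Fan.mk (op (∐ F)) fun j => (Sigma.ι F j).op : Fan f) :=
    IsLimit.ofIsoLimit (Cofan.IsColimit.op (coproductIsCoproduct F))
      (Cone.ext (Iso.refl _) fun j => (Category.id_comp _).symm)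
  refine preservesLimit_of_preserves_limit_cone hl ((isLimitMapConeFanMkEquiv _ _ _).symm ?_)
  have key : ∀ φ : ∀ j, fam H (F j), ∃! Φ : fam H (∐ F), ∀ j, famMap H (Sigma.ι F j) Φ = φ j := by
    intro φ
    let e : ∀ A : ObjectProperty.FullSubcategory (fun K : D => CohDer.IsCompactObject K),
        (⨁ j, (A.obj ⟶ F j)) ≃+ (A.obj ⟶ ∐ F) := fun A =>
      AddEquiv.ofBijective _ (A.2 κ F)
    have he : ∀ A j (c : A.obj ⟶ F j), e A (DirectSum.of _ j c) = c ≫ Sigma.ι F j := fun A j c => by
      change CohDer.homSumToHomCoprod A.obj F (DirectSum.of _ j c) = _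
      simp [CohDer.homSumToHomCoprod, Preadditive.rightComp]
    let Φ : ∀ A, (A.obj ⟶ ∐ F) →+ H.obj (op A) := fun A =>
      (DirectSum.toAddMonoid fun j => (φ j).1 A).comp (e A).symm.toAddMonoidHom
    have hΦ : ∀ A j c, Φ A (c ≫ Sigma.ι F j) = (φ j).1 A c := fun A j c => by
      rw [← he]
      simp [Φ]
    have hnat : Φ ∈ fam H (∐ F) := fun A B a c => by
      obtain ⟨x, rfl⟩ := (e A).surjective c
      induction x using DirectSum.induction_on with
      | zero => simp
      | of j c' => rw [he, ← Category.assoc, hΦ, hΦ, (φ j).2]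
      | add p q hp hq => rw [map_add, Preadditive.comp_add, map_add, map_add, hp, hq, map_add]
    refine ⟨⟨Φ, hnat⟩, fun j => fam_ext H fun A c => hΦ A j c, fun Ψ hΨ => fam_ext H fun A c => ?_⟩
    obtain ⟨x, rfl⟩ := (e A).surjective c
    induction x using DirectSum.induction_on with
    | zero => simp
    | of j c' => rw [he, hΦ, ← hΨ j]; rfl
    | add p q hp hq => rw [map_add, map_add, hp, hq, map_add]
  let g : ∀ (s : Fan fun j => (famFunctor H hs).obj (f j)) (x : s.pt), (famFunctor H hs).obj (op (∐ F)) :=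
    fun s x => (toFam H hs _).symm (key fun j => toFam H hs (F j) (s.proj j x)).choose
  have gspec : ∀ s x j, (famFunctor H hs).map (Sigma.ι F j).op (g s x) = s.proj j x := fun s x j => by
    refine (toFam H hs (F j)).injective ?_
    rw [toFam_map, AddEquiv.apply_symm_apply]
    exact (key fun j => toFam H hs (F j) (s.proj j x)).choose_spec.1 j
  have guniq : ∀ y z : (famFunctor H hs).obj (op (∐ F)),
      (∀ j, (famFunctor H hs).map (Sigma.ι F j).op y = (famFunctor H hs).map (Sigma.ι F j).op z) → y = z := by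
    intro y z hyz
    refine (toFam H hs _).injective ((key fun j => famMap H (Sigma.ι F j) (toFam H hs _ z)).unique
      (fun j => ?_) fun j => rfl)
    rw [← toFam_map, hyz, toFam_map]
  refine mkFanLimit _ (fun s => AddCommGrpCat.ofHom (AddMonoidHom.mk' (g s) fun x y => ?_))
    (fun s j => ?_) (fun s m hm => ?_)
  · refine guniq _ _ fun j => ?_
    rw [map_add, gspec, gspec, gspec, map_add]
  · exact AddCommGrpCat.hom_ext (AddMonoidHom.ext fun x => gspec s x j)
  · refine AddCommGrpCat.hom_ext (AddMonoidHom.ext fun x => guniq _ _ fun j => ?_)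
    exact (congr($(hm j) x)).trans (gspec s x j).symm

variable [HasZeroObject D] [HasShift D ℤ] [∀ n : ℤ, (shiftFunctor D n).Additive] [Pretriangulated D]
  [IsTriangulated D] [H.Additive]
  (hcoh : ∀ T ∈ distTriang D, ∀ (h₁ : CohDer.IsCompactObject T.obj₁)
      (h₂ : CohDer.IsCompactObject T.obj₂) (h₃ : CohDer.IsCompactObject T.obj₃)
      (y : H.obj (op ⟨T.obj₂, h₂⟩)),
      H.map (ObjectProperty.homMk T.mor₁ : (⟨T.obj₁, h₁⟩ : ObjectProperty.FullSubcategory
          (fun K : D => CohDer.IsCompactObject K)) ⟶ ⟨T.obj₂, h₂⟩).op y = 0 →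
        ∃ z : H.obj (op ⟨T.obj₃, h₃⟩),
          H.map (ObjectProperty.homMk T.mor₂ : (⟨T.obj₂, h₂⟩ : ObjectProperty.FullSubcategory
            (fun K : D => CohDer.IsCompactObject K)) ⟶ ⟨T.obj₃, h₃⟩).op z = y)

include hcoh in
theorem isHomological_famFunctor (hfin : ∀ A, Module.Finite k (H.obj A))
    (hs : ∀ X, Small.{v} (fam H X)) : (famFunctor H hs).IsHomological := by
  have : (Groth.L10.CompactFactor.compacts (D := D)).IsTriangulated := inferInstance
  have hiso : ObjectProperty.IsClosedUnderIsomorphisms (fun K : D => CohDer.IsCompactObject K) :=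
    inferInstanceAs (Groth.L10.CompactFactor.compacts (D := D)).IsClosedUnderIsomorphisms
  have htri : ObjectProperty.IsTriangulated (fun K : D => CohDer.IsCompactObject K) := this
  have hz : (famFunctor H hs).PreservesZeroMorphisms := ⟨fun X Y => by
    refine AddCommGrpCat.hom_ext (AddMonoidHom.ext fun x => ?_)
    refine (toFam H hs Y.unop).injective ?_
    change toFam H hs Y.unop ((famFunctor H hs).map (0 : Y.unop ⟶ X.unop).op x) = toFam H hs Y.unop 0
    rw [toFam_map, map_zero]
    exact fam_ext H fun A c => by rw [famMap_apply, comp_zero, map_zero]; rfl⟩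
  refine ⟨fun T hT => (ShortComplex.ab_exact_iff _).2 fun (x : (famFunctor H hs).obj T.obj₂)
    (hx : (famFunctor H hs).map T.mor₂ x = 0) => ?_⟩
  obtain ⟨T₀, hT₀, ⟨e⟩⟩ : ∃ T₀ ∈ distTriang D, Nonempty ((triangleOpEquivalence D).functor.obj (op T₀) ≅ T) :=
    ⟨_, (mem_distTriang_op_iff T).1 hT, ⟨(triangleOpEquivalence D).counitIso.app T⟩⟩
  have e1 : e.inv.hom₂ ≫ ((triangleOpEquivalence D).functor.obj (op T₀)).mor₂ = T.mor₂ ≫ e.inv.hom₃ :=
    e.inv.comm₂.symm
  let x₀ := (famFunctor H hs).map e.inv.hom₂ x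
  have hx₀ : (famFunctor H hs).map T₀.mor₁.op x₀ = 0 := by
    have := congrArg (famFunctor H hs).map e1
    rw [Functor.map_comp, Functor.map_comp] at this
    refine (congr($this x)).trans ?_
    rw [CategoryTheory.comp_apply, hx, map_zero]
  obtain ⟨ψ, hψ⟩ := exists_extend H hcoh (fun A => hfin (op A)) hT₀ (toFam H hs _ x₀) fun A c => by
    have h := congrArg (toFam H hs _) hx₀
    rw [toFam_map, map_zero] at h
    exact congr(($h).1 A c)
  refine ⟨(famFunctor H hs).map e.hom.hom₁ ((toFam H hs T₀.obj₃).symm ψ), ?_⟩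
  change (famFunctor H hs).map T.mor₁ ((famFunctor H hs).map e.hom.hom₁ _) = x
  have e2 : e.hom.hom₁ ≫ T.mor₁ = T₀.mor₂.op ≫ e.hom.hom₂ := e.hom.comm₁.symm
  rw [← CategoryTheory.comp_apply, ← Functor.map_comp, e2, Functor.map_comp, CategoryTheory.comp_apply]
  have h3 : (famFunctor H hs).map T₀.mor₂.op ((toFam H hs T₀.obj₃).symm ψ) = x₀ := by
    refine (toFam H hs _).injective ?_
    rw [toFam_map, AddEquiv.apply_symm_apply]
    exact fam_ext H hψ
  erw [h3]
  change (famFunctor H hs).map e.hom.hom₂ ((famFunctor H hs).map e.inv.hom₂ x) = x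
  rw [← CategoryTheory.comp_apply, ← Functor.map_comp, Iso.inv_hom_id_triangle_hom₂, CategoryTheory.Functor.map_id]
  rfl

include hcoh in
theorem exists_representing [Linear k D]
    (hlin : ∀ (X Y : ObjectProperty.FullSubcategory (fun K : D => CohDer.IsCompactObject K))
      (r : k) (f : X ⟶ Y), H.map (r • f).op = r • H.map f.op)
    (hD : CohDer.IsCompactlyGenerated D) (hfin : ∀ A, Module.Finite k (H.obj A)) :
    ∃ Y : D, Nonempty (H ≅ (ObjectProperty.ι _).op ⋙ (linearYoneda k D).obj Y) := by
  have := essentiallySmall_compacts hD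
  have hs : ∀ X, Small.{v} (fam H X) := small_fam H
  have := isHomological_famFunctor H hcoh hfin hs
  have := preservesProducts_famFunctor H hs
  obtain ⟨Y, ⟨rep⟩⟩ := (Groth.L10.Brown.hasBrown_of_compactlyGenerated hD (famFunctor H hs)).has_representation
  let η : fam H Y := toFam H hs Y (rep.homEquiv (𝟙 Y))
  have hη : ∀ {X : D} (f : X ⟶ Y), toFam H hs X (rep.homEquiv f) = famMap H f η := fun {X} f => by
    rw [← toFam_map, rep.homEquiv_eq f]
    rfl
  have hbij : ∀ A, Function.Bijective (η.1 A) := by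
    intro A
    let ev : fam H A.obj → H.obj (op A) := fun φ => φ.1 A (𝟙 A.obj)
    have hev : Function.Bijective ev := by
      refine ⟨fun φ ψ h => fam_ext H fun B c => ?_, fun y => ⟨⟨fun B =>
        AddMonoidHom.mk' (fun c => res H c y) fun c c' => res_add H c c' y, fun B C a c =>
          res_comp H a c y⟩, res_id H A y⟩⟩
      have h1 := φ.2 A B c (𝟙 A.obj)
      have h2 := ψ.2 A B c (𝟙 A.obj)
      rw [Category.comp_id] at h1 h2
      rw [h1, h2]
      exact congrArg (res H c) h
    have : (η.1 A : (A.obj ⟶ Y) → H.obj (op A)) =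
        ev ∘ (toFam H hs A.obj) ∘ (rep.homEquiv (X := A.obj)) := by
      funext f
      change η.1 A f = (toFam H hs A.obj (rep.homEquiv f)).1 A (𝟙 A.obj)
      rw [hη, famMap_apply, Category.id_comp]
    rw [this]
    exact hev.comp ((toFam H hs A.obj).bijective.comp rep.homEquiv.bijective)
  have hsmul : ∀ A (r : k) (f : A.obj ⟶ Y), η.1 A (r • f) = r • η.1 A f := fun A r f => by
    have h := η.2 A A (r • 𝟙 A.obj) f
    rw [Linear.smul_comp, Category.id_comp] at h
    rw [h]
    have h1 := congr($(hlin A A r (𝟙 A)) (η.1 A f))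
    rw [op_id, H.map_id] at h1
    exact h1
  refine ⟨Y, ⟨(NatIso.ofComponents (fun A => (LinearEquiv.ofBijective
    ({ toFun := η.1 A.unop, map_add' := map_add _, map_smul' := hsmul A.unop } :
      (A.unop.obj ⟶ Y) →ₗ[k] H.obj A) (hbij A.unop)).toModuleIso) fun {A B} a => ?_).symm⟩⟩
  refine ModuleCat.hom_ext (LinearMap.ext fun f => ?_)
  exact η.2 A.unop B.unop a.unop.hom f

end

end Groth.L07.CompRep
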