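import Groth.Agent.L07.CompRep.Main
import Groth.Agent.L29.DCoh.Gen.Brown

/-! Representing a cohomological functor on a small triangulated subcategory inside a Brown category. -/

universe t w v u
open CategoryTheory CategoryTheory.Limits CategoryTheory.Pretriangulated CategoryTheory.Pretriangulated.Opposite Opposite DirectSum
open scoped Classical

set_option backward.isDefEq.respectTransparency false
set_option backward.defeqAttrib.useBackward true
set_option linter.unusedSectionVars false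
set_option linter.style.haveILetI false
namespace Groth.L07.CompRep

variable {k : Type w} [Field k] {D : Type u} [Category.{v} D] [Preadditive D]
  {P : ObjectProperty D} (H : (P.FullSubcategory)ᵒᵖ ⥤ ModuleCat.{v} k)

theorem small_fam_t [LocallySmall.{t} D] [ObjectProperty.EssentiallySmall.{t} P]
    [∀ A : P.FullSubcategory, Small.{t} (H.obj (op A))] (X : D) : Small.{t} (fam H X) := by
  obtain ⟨Q, _, hQP, hPQ⟩ := ObjectProperty.EssentiallySmall.exists_small_le.{t} P
  refine small_of_injective (β := ∀ A : Subtype Q,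
    (A.1 ⟶ X) → H.obj (op (⟨A.1, hQP _ A.2⟩ : P.FullSubcategory)))
    (f := fun φ A c => φ.1 ⟨A.1, hQP _ A.2⟩ c) fun φ ψ h => fam_ext H fun A c => ?_
  obtain ⟨B, hB, ⟨e⟩⟩ := hPQ _ A.2
  have h1 := φ.2 ⟨B, hQP _ hB⟩ A e.hom (e.inv ≫ c)
  have h2 := ψ.2 ⟨B, hQP _ hB⟩ A e.hom (e.inv ≫ c)
  rw [Iso.hom_inv_id_assoc] at h1 h2
  rw [h1, h2]
  exact congrArg (res H e.hom) (congr($h ⟨B, hB⟩ (e.inv ≫ c)))

/-- Natural families on the objects of `Q`. -/
noncomputable abbrev relFunctor (Q : ObjectProperty D) (hs : ∀ X, Small.{v} (fam H X)) :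
    Q.FullSubcategoryᵒᵖ ⥤ AddCommGrpCat.{v} := Q.ι.op ⋙ famFunctor H hs

variable {Q : ObjectProperty D}

theorem preservesProducts_relFunctor [HasCoproducts.{t} D]
    [∀ κ : Type t, Q.IsClosedUnderColimitsOfShape (Discrete κ)] (hs : ∀ X, Small.{v} (fam H X))
    (hbij : ∀ (A : P.FullSubcategory) (κ : Type t) (F : κ → D), (∀ j, Q (F j)) →
      ∃ e : (⨁ j, (A.obj ⟶ F j)) ≃+ (A.obj ⟶ ∐ F), ∀ j c, e (DirectSum.of _ j c) = c ≫ Sigma.ι F j)
    (κ : Type t) : PreservesLimitsOfShape (Discrete κ) (relFunctor H Q hs) := by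
  classical
  suffices ∀ f : κ → Q.FullSubcategoryᵒᵖ, PreservesLimit (Discrete.functor f) (relFunctor H Q hs) from
    preservesLimitsOfShape_of_discrete _
  intro f
  let F₀ : κ → Q.FullSubcategory := fun j => (f j).unop
  let F : κ → D := fun j => (F₀ j).obj
  haveI : HasCoproduct F₀ := inferInstance
  have hl : IsLimit (Fan.mk (op (∐ F₀)) fun j => (Sigma.ι F₀ j).op : Fan f) :=
    IsLimit.ofIsoLimit (Cofan.IsColimit.op (coproductIsCoproduct F₀))
      (Cone.ext (Iso.refl _) fun j => (Category.id_comp _).symm)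
  haveI : IsIso (sigmaComparison Q.ι F₀) := inferInstance
  let c : (∐ F) ≅ (∐ F₀).obj := asIso (sigmaComparison Q.ι F₀)
  have hc : ∀ j, Sigma.ι F j ≫ c.hom = (Sigma.ι F₀ j).hom := fun j => ι_comp_sigmaComparison Q.ι F₀ j
  refine preservesLimit_of_preserves_limit_cone hl ((isLimitMapConeFanMkEquiv _ _ _).symm ?_)
  have key : ∀ φ : ∀ j, fam H (F j), ∃! Φ : fam H (∐ F₀).obj, ∀ j, famMap H (Sigma.ι F₀ j).hom Φ = φ j := by
    intro φ
    choose e he using fun A => hbij A κ F fun j => (F₀ j).property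
    let e' : ∀ A : P.FullSubcategory, (⨁ j, (A.obj ⟶ F j)) ≃+ (A.obj ⟶ (∐ F₀).obj) := fun A =>
      (e A).trans
        { toFun := fun g => g ≫ c.hom
          invFun := fun g => g ≫ c.inv
          left_inv := fun g => by simp
          right_inv := fun g => by simp
          map_add' := fun g g' => Preadditive.add_comp _ _ _ _ _ _ }
    have he' : ∀ A j (x : A.obj ⟶ F j), e' A (DirectSum.of _ j x) = x ≫ (Sigma.ι F₀ j).hom := fun A j x => by
      change e A (DirectSum.of _ j x) ≫ c.hom = _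
      rw [he, Category.assoc, hc]
    let Φ : ∀ A, (A.obj ⟶ (∐ F₀).obj) →+ H.obj (op A) := fun A =>
      (DirectSum.toAddMonoid fun j => (φ j).1 A).comp (e' A).symm.toAddMonoidHom
    have hΦ : ∀ A j x, Φ A (x ≫ (Sigma.ι F₀ j).hom) = (φ j).1 A x := fun A j x => by
      rw [← he']
      simp [Φ]
    have hnat : Φ ∈ fam H (∐ F₀).obj := fun A B a y => by
      obtain ⟨x, rfl⟩ := (e' A).surjective y
      induction x using DirectSum.induction_on with
      | zero => simp
      | of j c' => rw [he', ← Category.assoc, hΦ, hΦ, (φ j).2]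
      | add p q hp hq => rw [map_add, Preadditive.comp_add, map_add, map_add, hp, hq, map_add]
    refine ⟨⟨Φ, hnat⟩, fun j => fam_ext H fun A x => hΦ A j x, fun Ψ hΨ => fam_ext H fun A y => ?_⟩
    obtain ⟨x, rfl⟩ := (e' A).surjective y
    induction x using DirectSum.induction_on with
    | zero => simp
    | of j c' => rw [he', hΦ, ← hΨ j]; rfl
    | add p q hp hq => rw [map_add, map_add, hp, hq, map_add]
  let g : ∀ (s : Fan fun j => (relFunctor H Q hs).obj (f j)) (x : s.pt), (relFunctor H Q hs).obj (op (∐ F₀)) :=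
    fun s x => (toFam H hs _).symm (key fun j => toFam H hs (F j) (s.proj j x)).choose
  have gspec : ∀ s x j, (relFunctor H Q hs).map (Sigma.ι F₀ j).op (g s x) = s.proj j x := fun s x j => by
    refine (toFam H hs (F j)).injective ?_
    change toFam H hs (F j) ((famFunctor H hs).map (Sigma.ι F₀ j).hom.op _) = _
    rw [toFam_map]
    erw [AddEquiv.apply_symm_apply]
    exact (key fun j => toFam H hs (F j) (s.proj j x)).choose_spec.1 j
  have guniq : ∀ y z : (relFunctor H Q hs).obj (op (∐ F₀)),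
      (∀ j, (relFunctor H Q hs).map (Sigma.ι F₀ j).op y = (relFunctor H Q hs).map (Sigma.ι F₀ j).op z) → y = z := by
    intro y z hyz
    refine (toFam H hs _).injective ((key fun j => famMap H (Sigma.ι F₀ j).hom (toFam H hs _ z)).unique
      (fun j => ?_) fun j => rfl)
    exact (toFam_map H hs _ _).symm.trans ((congrArg _ (hyz j)).trans (toFam_map H hs _ _))
  refine Fan.IsLimit.mk _ (fun s => AddCommGrpCat.ofHom (AddMonoidHom.mk' (g s) fun x y => ?_))
    (fun s j => ?_) (fun s m hm => ?_)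
  · refine guniq _ _ fun j => ?_
    rw [map_add, gspec, gspec, gspec, map_add]
  · exact AddCommGrpCat.hom_ext (AddMonoidHom.ext fun x => gspec s x j)
  · refine AddCommGrpCat.hom_ext (AddMonoidHom.ext fun x => guniq _ _ fun j => ?_)
    exact (congr($(hm j) x)).trans (gspec s x j).symm

variable [HasZeroObject D] [HasShift D ℤ] [∀ n : ℤ, (shiftFunctor D n).Additive] [Pretriangulated D]
  [IsTriangulated D] [P.IsTriangulated] [P.IsClosedUnderIsomorphisms] [Q.IsTriangulated] [H.Additive]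
  (hcoh : ∀ T ∈ distTriang D, ∀ (h₁ : P T.obj₁) (h₂ : P T.obj₂) (h₃ : P T.obj₃)
      (y : H.obj (op ⟨T.obj₂, h₂⟩)),
      res H (A := ⟨T.obj₂, h₂⟩) (B := ⟨T.obj₁, h₁⟩) T.mor₁ y = 0 →
        ∃ z : H.obj (op ⟨T.obj₃, h₃⟩),
          res H (A := ⟨T.obj₃, h₃⟩) (B := ⟨T.obj₂, h₂⟩) T.mor₂ z = y)

include hcoh in
theorem isHomological_relFunctor (hfin : ∀ A : P.FullSubcategory, Module.Finite k (H.obj (op A)))
    (hs : ∀ X, Small.{v} (fam H X)) : (relFunctor H Q hs).IsHomological := by
  have : (relFunctor H Q hs).PreservesZeroMorphisms := ⟨fun X Y => by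
    refine AddCommGrpCat.hom_ext (AddMonoidHom.ext fun x => ?_)
    refine (toFam H hs Y.unop.obj).injective ?_
    change toFam H hs Y.unop.obj ((famFunctor H hs).map (0 : Y.unop.obj ⟶ X.unop.obj).op x) = toFam H hs Y.unop.obj 0
    rw [toFam_map, map_zero]
    exact fam_ext H fun A c => by rw [famMap_apply, comp_zero, map_zero]; rfl⟩
  let R := relFunctor H Q hs
  refine ⟨fun T hT => (ShortComplex.ab_exact_iff _).2 fun (x : R.obj T.obj₂) (hx : R.map T.mor₂ x = 0) => ?_⟩
  obtain ⟨T₀, hT₀, ⟨e⟩⟩ : ∃ T₀ ∈ distTriang Q.FullSubcategory,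
      Nonempty ((triangleOpEquivalence Q.FullSubcategory).functor.obj (op T₀) ≅ T) :=
    ⟨_, (mem_distTriang_op_iff T).1 hT, ⟨(triangleOpEquivalence Q.FullSubcategory).counitIso.app T⟩⟩
  have e1 : e.inv.hom₂ ≫ ((triangleOpEquivalence Q.FullSubcategory).functor.obj (op T₀)).mor₂ =
      T.mor₂ ≫ e.inv.hom₃ := e.inv.comm₂.symm
  let x₀ := R.map e.inv.hom₂ x
  have hx₀ : R.map T₀.mor₁.op x₀ = 0 := by
    have := congrArg R.map e1
    rw [Functor.map_comp, Functor.map_comp] at this
    refine (congr($this x)).trans ?_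
    rw [CategoryTheory.comp_apply, hx, map_zero]
  obtain ⟨ψ, hψ⟩ := exists_extend H hcoh hfin (Q.ι.map_distinguished T₀ hT₀) (toFam H hs _ x₀) fun A c => by
    have h := congrArg (toFam H hs T₀.obj₁.obj) hx₀
    change toFam H hs T₀.obj₁.obj ((famFunctor H hs).map T₀.mor₁.hom.op x₀) = _ at h
    rw [toFam_map, map_zero] at h
    exact congr(($h).1 A c)
  refine ⟨R.map e.hom.hom₁ ((toFam H hs T₀.obj₃.obj).symm ψ), ?_⟩
  change R.map T.mor₁ (R.map e.hom.hom₁ _) = x
  have e2 : e.hom.hom₁ ≫ T.mor₁ = T₀.mor₂.op ≫ e.hom.hom₂ := e.hom.comm₁.symm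
  rw [← CategoryTheory.comp_apply, ← Functor.map_comp, e2, Functor.map_comp, CategoryTheory.comp_apply]
  have h3 : R.map T₀.mor₂.op ((toFam H hs T₀.obj₃.obj).symm ψ) = x₀ := by
    refine (toFam H hs T₀.obj₂.obj).injective ?_
    change toFam H hs T₀.obj₂.obj ((famFunctor H hs).map T₀.mor₂.hom.op _) = _
    rw [toFam_map, AddEquiv.apply_symm_apply]
    exact fam_ext H hψ
  erw [h3]
  change R.map e.hom.hom₂ (R.map e.inv.hom₂ x) = x
  rw [← CategoryTheory.comp_apply, ← Functor.map_comp, Iso.inv_hom_id_triangle_hom₂, CategoryTheory.Functor.map_id]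
  rfl

include hcoh in
theorem exists_representing_rel [Linear k D] [LocallySmall.{t} D] [HasCoproducts.{t} D]
    [∀ κ : Type t, Q.IsClosedUnderColimitsOfShape (Discrete κ)]
    [HasColimitsOfShape (Discrete ℕ) Q.FullSubcategory] [ObjectProperty.EssentiallySmall.{t} P]
    [∀ A : P.FullSubcategory, Small.{t} (H.obj (op A))] (hPQ : P ≤ Q)
    (hlin : ∀ (A B : P.FullSubcategory) (r : k) (f : A ⟶ B), H.map (r • f).op = r • H.map f.op)
    (hfin : ∀ A : P.FullSubcategory, Module.Finite k (H.obj (op A)))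
    (hbij : ∀ (A : P.FullSubcategory) (κ : Type t) (F : κ → D), (∀ j, Q (F j)) →
      ∃ e : (⨁ j, (A.obj ⟶ F j)) ≃+ (A.obj ⟶ ∐ F), ∀ j c, e (DirectSum.of _ j c) = c ≫ Sigma.ι F j)
    {ι : Type t} (E : ι → Q.FullSubcategory)
    (hgen : ∀ X : Q.FullSubcategory, ¬ IsZero X → ∃ (i : ι) (f : E i ⟶ X), f ≠ 0)
    (hperf : Groth.L29.Brown.Perfect E) (hs : ∀ X, Small.{v} (fam H X)) :
    ∃ K : D, Q K ∧ Nonempty (H ≅ P.ι.op ⋙ (linearYoneda k D).obj K) := by
  have := isHomological_relFunctor (Q := Q) H hcoh hfin hs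
  have := preservesProducts_relFunctor (Q := Q) H hs hbij
  have : ∀ κ : Type t, HasColimitsOfShape (Discrete κ) Q.FullSubcategory := fun κ => inferInstance
  have : LocallySmall.{t} Q.FullSubcategory := ⟨fun A B => small_of_injective (f := fun g : A ⟶ B => g.hom)
    fun _ _ h => ObjectProperty.hom_ext _ h⟩
  have : ∀ X, Small.{t} ((relFunctor H Q hs).obj X) := fun X => by
    have := small_fam_t.{t} H X.unop.obj
    exact small_map (toFam H hs X.unop.obj).toEquiv
  obtain ⟨Y, ⟨rep⟩⟩ := (Groth.L29.Brown.isRepresentable (relFunctor H Q hs) E hgen hperf).has_representation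
  let η : fam H Y.obj := toFam H hs Y.obj (rep.homEquiv (𝟙 Y))
  have hη : ∀ {X : Q.FullSubcategory} (f : X ⟶ Y),
      toFam H hs X.obj (rep.homEquiv f) = famMap H f.hom η := fun {X} f => by
    rw [← toFam_map, rep.homEquiv_eq f]
    rfl
  have hbij' : ∀ A, Function.Bijective (η.1 A) := by
    intro A
    let ev : fam H A.obj → H.obj (op A) := fun φ => φ.1 A (𝟙 A.obj)
    have hev : Function.Bijective ev := by
      refine ⟨fun φ ψ h => fam_ext H fun B c => ?_, fun y => ⟨⟨fun B =>
        AddMonoidHom.mk' (fun c => res H c y) fun c c' => res_add H c c' y, fun B C a c =>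
          res_comp H a c y⟩, res_id H A y⟩⟩
      have h1 := φ.2 A B c (𝟙 A.obj)
      have h2 := ψ.2 A B c (𝟙 A.obj)
      rw [Category.comp_id] at h1 h2
      rw [h1, h2]
      exact congrArg (res H c) h
    let A' : Q.FullSubcategory := ⟨A.obj, hPQ _ A.2⟩
    let hm : (A.obj ⟶ Y.obj) ≃ (A' ⟶ Y) :=
      { toFun := fun f => ObjectProperty.homMk f, invFun := fun f => f.hom }
    have : (η.1 A : (A.obj ⟶ Y.obj) → H.obj (op A)) =
        ev ∘ (toFam H hs A.obj) ∘ (rep.homEquiv (X := A')) ∘ hm := by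
      funext f
      change η.1 A f = (toFam H hs A'.obj (rep.homEquiv (hm f))).1 A (𝟙 A.obj)
      rw [hη, famMap_apply]
      exact congrArg _ (Category.id_comp f).symm
    rw [this]
    exact hev.comp ((toFam H hs A.obj).bijective.comp (rep.homEquiv.bijective.comp hm.bijective))
  have hsmul : ∀ A (r : k) (f : A.obj ⟶ Y.obj), η.1 A (r • f) = r • η.1 A f := fun A r f => by
    have h := η.2 A A (r • 𝟙 A.obj) f
    rw [Linear.smul_comp, Category.id_comp] at h
    rw [h]
    have h1 := congr($(hlin A A r (𝟙 A)) (η.1 A f))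
    rw [op_id, H.map_id] at h1
    exact h1
  refine ⟨Y.obj, Y.property, ⟨(NatIso.ofComponents (fun A => (LinearEquiv.ofBijective
    ({ toFun := η.1 A.unop, map_add' := map_add _, map_smul' := hsmul A.unop } :
      (A.unop.obj ⟶ Y.obj) →ₗ[k] H.obj A) (hbij' A.unop)).toModuleIso) fun {A B} a => ?_).symm⟩⟩
  refine ModuleCat.hom_ext (LinearMap.ext fun f => ?_)
  exact η.2 A.unop B.unop a.unop.hom f

end Groth.L07.CompRep
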