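import Groth.Agent.L10.CompactGen
import Mathlib.CategoryTheory.ObjectProperty.LimitsClosure
import Mathlib.CategoryTheory.ObjectProperty.Small
import Mathlib.CategoryTheory.ObjectProperty.Retract

/-! The compact objects of a compactly generated triangulated category are essentially small. -/

universe t v u
open CategoryTheory CategoryTheory.Limits CategoryTheory.Pretriangulated ZeroObject

set_option backward.isDefEq.respectTransparency false
set_option linter.unusedSectionVars false
namespace Groth.L07.CompRep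

variable {D : Type u} [Category.{v} D] [Preadditive D] [HasZeroObject D] [HasShift D ℤ]
  [∀ n : ℤ, (shiftFunctor D n).Additive] [Pretriangulated D] [LocallySmall.{t} D]

theorem essentiallySmall_shiftClosure (P : ObjectProperty D)
    [ObjectProperty.EssentiallySmall.{t} P] :
    ObjectProperty.EssentiallySmall.{t} (P.shiftClosure ℤ) where
  exists_small_le' := by
    obtain ⟨Q, _, -, hQ⟩ := ObjectProperty.EssentiallySmall.exists_small_le.{t} P
    refine ⟨ObjectProperty.ofObj fun p : Subtype Q × ℤ => p.1.1⟦p.2⟧, inferInstance, ?_⟩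
    intro X hX
    obtain ⟨Y, n, f, hY⟩ := (ObjectProperty.prop_shiftClosure_iff P X).1 hX
    obtain ⟨Z, hZ, ⟨e⟩⟩ := hQ _ hY
    exact ⟨_, ObjectProperty.ofObj_apply _ (⟨Z, hZ⟩, n), ⟨f ≪≫ (shiftFunctor D n).mapIso e⟩⟩

theorem essentiallySmall_extensionProduct (P Q : ObjectProperty D)
    [ObjectProperty.EssentiallySmall.{t} P] [ObjectProperty.EssentiallySmall.{t} Q] :
    ObjectProperty.EssentiallySmall.{t} (ObjectProperty.extensionProduct P Q) where
  exists_small_le' := by
    obtain ⟨P', _, -, hP⟩ := ObjectProperty.EssentiallySmall.exists_small_le.{t} P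
    obtain ⟨Q', _, -, hQ⟩ := ObjectProperty.EssentiallySmall.exists_small_le.{t} Q
    choose M a b hM using fun p : (Σ (A : Subtype P') (B : Subtype Q'), (B.1 ⟶ A.1⟦(1 : ℤ)⟧)) =>
      distinguished_cocone_triangle₂ p.2.2
    refine ⟨ObjectProperty.ofObj M, inferInstance, ?_⟩
    rintro X ⟨Y, Z, f, g, h, hT, hY, hZ⟩
    obtain ⟨A, hA, ⟨eY⟩⟩ := hP _ hY
    obtain ⟨B, hB, ⟨eZ⟩⟩ := hQ _ hZ
    refine ⟨_, ObjectProperty.ofObj_apply M ⟨⟨A, hA⟩, ⟨B, hB⟩, eZ.inv ≫ h ≫ eY.hom⟦(1 : ℤ)⟧'⟩, ?_⟩
    obtain ⟨e, -, -⟩ := exists_iso_of_arrow_iso _ _ (rot_of_distTriang _ (rot_of_distTriang _ hT))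
      (rot_of_distTriang _ (rot_of_distTriang _
        (hM ⟨⟨A, hA⟩, ⟨B, hB⟩, eZ.inv ≫ h ≫ eY.hom⟦(1 : ℤ)⟧'⟩)))
      (Arrow.isoMk eZ ((shiftFunctor D (1 : ℤ)).mapIso eY) (by
        simp [Triangle.rotate]))
    exact ⟨(shiftFunctor D (1 : ℤ)).preimageIso (Triangle.π₃.mapIso e)⟩

theorem essentiallySmall_extensionProductIter (P : ObjectProperty D)
    [ObjectProperty.EssentiallySmall.{t} P] (n : ℕ) :
    ObjectProperty.EssentiallySmall.{t} (P.extensionProductIter n) := by
  induction n with
  | zero => rw [ObjectProperty.extensionProductIter_zero]; infer_instance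
  | succ n ih =>
    rw [ObjectProperty.extensionProductIter_succ]
    exact essentiallySmall_extensionProduct _ _

theorem essentiallySmall_triangEnvelope (P : ObjectProperty D)
    [ObjectProperty.EssentiallySmall.{t} P] :
    ObjectProperty.EssentiallySmall.{t} P.triangEnvelope := by
  have : ObjectProperty.EssentiallySmall.{t} (P.shiftClosure ℤ) := essentiallySmall_shiftClosure P
  have := fun n => essentiallySmall_extensionProductIter
    (P.shiftClosure ℤ).binaryProductsClosure.retractClosure n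
  rw [ObjectProperty.triangEnvelope]
  infer_instance

omit [LocallySmall.{t} D] in
theorem essentiallySmall_compacts [IsTriangulated D] [HasCoproducts.{v} D]
    (hD : CohDer.IsCompactlyGenerated D) :
    ObjectProperty.EssentiallySmall.{v} (fun K : D => CohDer.IsCompactObject K) := by
  have : HasColimitsOfShape (Discrete ℕ) D :=
    hasColimitsOfShape_of_equivalence (Discrete.equivalence (Equiv.ulift.{v} : ULift.{v} ℕ ≃ ℕ))
  obtain ⟨ι, E, hc, hg⟩ := hD
  rcases isEmpty_or_nonempty ι with hι | hι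
  · refine ⟨ObjectProperty.ofObj fun _ : PUnit.{v + 1} => (0 : D), inferInstance, fun K _ => ?_⟩
    exact ⟨_, ObjectProperty.ofObj_apply _ PUnit.unit,
      ⟨(hg K fun i => isEmptyElim i).isoZero⟩⟩
  have : ObjectProperty.EssentiallySmall.{v} (ObjectProperty.ofObj E) := inferInstance
  have := essentiallySmall_triangEnvelope.{v} (ObjectProperty.ofObj E)
  refine ObjectProperty.EssentiallySmall.of_le (Q := (ObjectProperty.ofObj E).triangEnvelope) ?_
  intro K hK
  obtain ⟨s, E', g, h, hE', hgh⟩ := Groth.L10.CompactGen.factor_env E hc hg hK (𝟙 K)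
  refine ObjectProperty.prop_of_retract _ (X := K) (Y := E') ⟨g, h, hgh⟩ ?_
  exact ObjectProperty.monotone_triangEnvelope (fun Y ⟨i, _, hY⟩ => hY ▸ ObjectProperty.ofObj_apply E i) _ hE'

end Groth.L07.CompRep
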